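import Groth.Prelude.Def_CycAlg
import Mathlib

/-! # Gluing finite extensions given at the height one primes over a nonzerodivisor -/

set_option autoImplicit false
set_option linter.style.haveILetI false
universe u

open TensorProduct

namespace Groth.Agent.Glue28

theorem nonempty_equiv {A C B : Type u} [CommRing A] [CommRing C] [Algebra A C] (p : Ideal A) [p.IsPrime]
    [CommRing B] [Algebra A B] [Algebra (Localization.AtPrime p) B] [IsScalarTower A (Localization.AtPrime p) B]
    (χ : C →ₐ[A] B) (hker : ∀ c, χ c = 0 → ∃ s, s ∉ p ∧ s • c = 0)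
    (hsur : ∀ b, ∃ (s : A) (c : C), s ∉ p ∧ χ c = algebraMap A B s * b) :
    Nonempty (Localization.AtPrime p ⊗[A] C ≃ₐ[Localization.AtPrime p] B) := by
  let Φ := Algebra.TensorProduct.lift (Algebra.ofId (Localization.AtPrime p) B) χ (fun _ _ => Commute.all _ _)
  have hΦ : ∀ r c, Φ (r ⊗ₜ[A] c) = algebraMap _ B r * χ c := fun r c => rfl
  have hlm : IsLocalizedModule p.primeCompl (TensorProduct.mk A (Localization.AtPrime p) C 1) :=
    (isLocalizedModule_iff_isBaseChange p.primeCompl (Localization.AtPrime p) _).2 (TensorProduct.isBaseChange A C _)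
  refine ⟨AlgEquiv.ofBijective Φ ⟨(injective_iff_map_eq_zero Φ).2 fun z hz => ?_, fun b => ?_⟩⟩
  · obtain ⟨⟨c, s⟩, hcs⟩ := IsLocalizedModule.surj p.primeCompl (TensorProduct.mk A (Localization.AtPrime p) C 1) z
    have h1 : Φ ((1 : Localization.AtPrime p) ⊗ₜ[A] c) = 0 := by
      have : (1 : Localization.AtPrime p) ⊗ₜ[A] c = algebraMap A (Localization.AtPrime p) s • z := by
        rw [algebraMap_smul]; exact hcs.symm
      rw [this, map_smul, hz, smul_zero]
    rw [hΦ, map_one, one_mul] at h1
    obtain ⟨s', hs', h2⟩ := hker c h1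
    have h3 : algebraMap A (Localization.AtPrime p) s' • (algebraMap A (Localization.AtPrime p) (s : A) • z) = 0 := by
      rw [algebraMap_smul, algebraMap_smul, show (s : A) • z = _ from hcs, ← map_smul, h2, map_zero]
    have u1 : IsUnit (algebraMap A (Localization.AtPrime p) s') := IsLocalization.map_units _ (⟨s', hs'⟩ : p.primeCompl)
    have u2 : IsUnit (algebraMap A (Localization.AtPrime p) (s : A)) := IsLocalization.map_units _ s
    exact (IsUnit.smul_eq_zero u2).1 ((IsUnit.smul_eq_zero u1).1 h3)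
  · obtain ⟨s, c, hs, hc⟩ := hsur b
    obtain ⟨v, hv⟩ := IsLocalization.map_units (Localization.AtPrime p) (⟨s, hs⟩ : p.primeCompl)
    refine ⟨((v⁻¹ : (Localization.AtPrime p)ˣ) : Localization.AtPrime p) ⊗ₜ c, ?_⟩
    rw [hΦ, hc, IsScalarTower.algebraMap_apply A (Localization.AtPrime p) B, show algebraMap A (Localization.AtPrime p) s = (v : Localization.AtPrime p) from hv.symm,
      ← mul_assoc, ← map_mul, Units.inv_mul, map_one, one_mul]

theorem glue {A : Type u} [CommRing A] [IsNoetherianRing A] [IsLocalRing A] (t : A)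
    (htnz : t ∈ nonZeroDivisors A) {ι : Type} [Finite ι] (q : ι → Ideal A) [∀ i, (q i).IsPrime]
    (htq : ∀ i, t ∈ q i) (hincomp : ∀ i j, q i ≤ q j → i = j) (hqm : ∀ i, q i ≠ IsLocalRing.maximalIdeal A)
    (hV : ∀ p : Ideal A, p.IsPrime → t ∈ p → p = IsLocalRing.maximalIdeal A ∨ ∃ i, p = q i)
    (B : ι → Type u) [∀ i, CommRing (B i)] [∀ i, Algebra (Localization.AtPrime (q i)) (B i)]
    (hB : ∀ i, CycAlg.IsFinExt (Localization.AtPrime (q i)) (B i)
      (Ideal.span {algebraMap A (Localization.AtPrime (q i)) t}))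
    (htB : ∀ i, IsSMulRegular (B i) (algebraMap A (Localization.AtPrime (q i)) t)) :
    ∃ (C : Type u) (_ : CommRing C) (_ : Algebra A C), CycAlg.IsFinExt A C (Ideal.span {t}) ∧
      ∀ i, Nonempty (Localization.AtPrime (q i) ⊗[A] C ≃ₐ[Localization.AtPrime (q i)] B i) := by
  classical
  haveI := Fintype.ofFinite ι
  let 𝔪 := IsLocalRing.maximalIdeal A
  letI : ∀ i, Algebra A (B i) := fun i =>
    ((algebraMap (Localization.AtPrime (q i)) (B i)).comp (algebraMap A (Localization.AtPrime (q i)))).toAlgebra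
  haveI : ∀ i, IsScalarTower A (Localization.AtPrime (q i)) (B i) := fun i => IsScalarTower.of_algebraMap_eq fun _ => rfl
  let L := fun i => Localization.Away (algebraMap A (B i) t)
  have htBreg : ∀ i, ∀ b : B i, algebraMap A (B i) t * b = 0 → b = 0 := fun i b hb => by
    refine htB i ?_
    show algebraMap A _ t • b = algebraMap A _ t • (0 : B i)
    rw [smul_zero, Algebra.smul_def]
    exact hb
  have hψ : ∀ i, Function.Injective (algebraMap (B i) (L i)) := fun i => by
    refine IsLocalization.injective (L i) (M := Submonoid.powers (algebraMap A (B i) t)) ?_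
    rw [Submonoid.powers_le, mem_nonZeroDivisors_iff_right]
    exact fun b hb => htBreg i b (by rwa [mul_comm])
  let K := Localization.Away t
  have hK : Function.Injective (algebraMap A K) :=
    IsLocalization.injective K (M := Submonoid.powers t) (Submonoid.powers_le.2 htnz)
  have hu : ∀ i, IsUnit (algebraMap A (L i) t) := fun i => by
    rw [IsScalarTower.algebraMap_apply A (B i) (L i)]
    exact IsLocalization.Away.algebraMap_isUnit (S := L i) (algebraMap A (B i) t)
  let φ : ∀ i, K →ₐ[A] L i := fun i =>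
    { toRingHom := IsLocalization.Away.lift t (hu i)
      commutes' := fun a => IsLocalization.Away.lift_eq t (hu i) a }
  -- elements with bounded denominators
  let M : ℕ → Submodule A K := fun N =>
    { carrier := {x | (∃ a, algebraMap A K a = algebraMap A K (t ^ N) * x) ∧ ∀ i, ∃ b : B i, algebraMap (B i) (L i) b = φ i x}
      zero_mem' := ⟨⟨0, by simp⟩, fun i => ⟨0, by simp⟩⟩
      add_mem' := fun {x y} hx hy => by
        obtain ⟨a, ha⟩ := hx.1
        obtain ⟨a', ha'⟩ := hy.1
        refine ⟨⟨a + a', by rw [map_add, ha, ha', mul_add]⟩, fun i => ?_⟩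
        obtain ⟨b, hb⟩ := hx.2 i
        obtain ⟨b', hb'⟩ := hy.2 i
        exact ⟨b + b', by rw [map_add, hb, hb', map_add]⟩
      smul_mem' := fun c {x} hx => by
        obtain ⟨a, ha⟩ := hx.1
        refine ⟨⟨c * a, by rw [map_mul, ha, Algebra.smul_def]; ring⟩, fun i => ?_⟩
        obtain ⟨b, hb⟩ := hx.2 i
        refine ⟨algebraMap A (B i) c * b, ?_⟩
        rw [map_mul, hb, ← IsScalarTower.algebraMap_apply, Algebra.smul_def, map_mul, AlgHom.commutes] }
  have hfg : ∀ N, (M N).FG := fun N => by
    obtain ⟨w, hw⟩ : IsUnit (algebraMap A K (t ^ N)) := by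
      rw [map_pow]; exact (IsLocalization.Away.algebraMap_isUnit (S := K) t).pow N
    let W : Submodule A K := Submodule.span A {((w⁻¹ : Kˣ) : K)}
    haveI hN : IsNoetherian A W := isNoetherian_of_fg_of_noetherian _ ⟨{((w⁻¹ : Kˣ) : K)}, by simp [W]⟩
    refine (isNoetherian_submodule.1 hN) _ fun x hx => ?_
    obtain ⟨a, ha⟩ := hx.1
    refine Submodule.mem_span_singleton.2 ⟨a, ?_⟩
    rw [Algebra.smul_def, ha, ← hw, mul_comm, ← mul_assoc, Units.inv_mul, one_mul]
  choose e he using fun i => (hB i).2.2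
  let n := Finset.univ.sup e
  -- kernels of the evaluations
  have hker : ∀ (i : ι) (N : ℕ) (x : K), x ∈ M N → φ i x = 0 → ∃ s, s ∉ q i ∧ s • x = 0 := fun i N x hx h0 => by
    obtain ⟨a, ha⟩ := hx.1
    have h1 : algebraMap A (L i) a = 0 := by
      rw [← (φ i).commutes a, ha, map_mul, h0, mul_zero]
    rw [IsScalarTower.algebraMap_apply A (B i) (L i), map_eq_zero_iff _ (hψ i),
      IsScalarTower.algebraMap_apply A (Localization.AtPrime (q i)) (B i), map_eq_zero_iff _ (hB i).1,
      IsLocalization.map_eq_zero_iff (q i).primeCompl] at h1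
    obtain ⟨⟨s, hs⟩, hsa⟩ := h1
    refine ⟨s, hs, (IsLocalization.Away.algebraMap_isUnit (S := K) t).pow N |>.mul_right_eq_zero.1 ?_⟩
    rw [← map_pow, Algebra.smul_def, mul_left_comm, ← ha, ← map_mul, hsa, map_zero]
  -- every element of `B i` comes from `M n` up to a denominator
  have hsur : ∀ (i : ι) (b : B i), ∃ (s : A) (x : K), s ∉ q i ∧ x ∈ M n ∧
      φ i x = algebraMap A (L i) s * algebraMap (B i) (L i) b := fun i b => by
    have htn : algebraMap A (Localization.AtPrime (q i)) t ^ n ∈
        Ideal.span {algebraMap A (Localization.AtPrime (q i)) t} ^ e i := by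
      refine Ideal.pow_le_pow_right (Finset.le_sup (Finset.mem_univ i)) ?_
      exact Ideal.pow_mem_pow (Ideal.mem_span_singleton_self _) n
    obtain ⟨z, hz⟩ := he i _ htn b
    obtain ⟨⟨a, s⟩, hza⟩ := IsLocalization.surj (q i).primeCompl z
    -- the auxiliary multiplier
    have hy : ∀ j, j ≠ i → ∃ y, y ∉ q i ∧
        algebraMap A (Localization.AtPrime (q j)) t ^ n ∣ algebraMap A (Localization.AtPrime (q j)) y := fun j hj => by
      have hrad : IsLocalRing.maximalIdeal (Localization.AtPrime (q j)) ≤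
          (Ideal.span {algebraMap A (Localization.AtPrime (q j)) t ^ n}).radical := by
        rcases Nat.eq_zero_or_pos n with h0 | h0
        · rw [h0, pow_zero, Ideal.span_singleton_one, Ideal.radical_top]; exact le_top
        rw [Ideal.radical_eq_sInf]
        refine le_sInf fun P hP => ?_
        haveI := hP.2
        have htP : algebraMap A (Localization.AtPrime (q j)) t ∈ P :=
          hP.2.mem_of_pow_mem n (hP.1 (Ideal.mem_span_singleton_self _))
        have hle : P.comap (algebraMap A (Localization.AtPrime (q j))) ≤ q j := fun x hx => by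
          by_contra hxq
          exact hP.2.ne_top (Ideal.eq_top_of_isUnit_mem _ hx
            (IsLocalization.map_units _ (⟨x, hxq⟩ : (q j).primeCompl)))
        rw [← Localization.AtPrime.map_eq_maximalIdeal, Ideal.map_le_iff_le_comap]
        rcases hV _ (Ideal.comap_isPrime _ P) htP with h | ⟨k, hk⟩
        · exact absurd (le_antisymm (IsLocalRing.le_maximalIdeal (Ideal.IsPrime.ne_top')) (h ▸ hle)) (hqm j)
        · rw [hk] at hle ⊢
          rw [hincomp k j hle]
      obtain ⟨c, hc⟩ := Ideal.exists_pow_le_of_le_radical_of_fg hrad (IsNoetherian.noetherian _)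
      obtain ⟨y, hyj, hyi⟩ := SetLike.not_le_iff_exists.1 (fun h => hj (hincomp j i h))
      refine ⟨y ^ c, fun h => hyi (Ideal.IsPrime.mem_of_pow_mem (inferInstance : (q i).IsPrime) c h), Ideal.mem_span_singleton.1 (hc ?_)⟩
      rw [map_pow]
      exact Ideal.pow_mem_pow (IsLocalization.AtPrime.to_map_mem_maximal_iff _ (q j) y |>.2 hyj) c
    choose! y hy1 hy2 using hy
    let Y := ∏ j ∈ Finset.univ.erase i, y j
    have hY : Y ∉ q i := fun h => by
      obtain ⟨j, hj, hjy⟩ := (Ideal.IsPrime.prod_mem_iff (p := q i)).1 h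
      exact hy1 j (Finset.ne_of_mem_erase hj) hjy
    obtain ⟨w, hw⟩ : IsUnit (algebraMap A K (t ^ n)) := by
      rw [map_pow]; exact (IsLocalization.Away.algebraMap_isUnit (S := K) t).pow n
    let x : K := algebraMap A K (Y * a) * ((w⁻¹ : Kˣ) : K)
    have hxa : algebraMap A K (t ^ n) * x = algebraMap A K (Y * a) := by
      rw [← hw, mul_comm, mul_assoc, Units.inv_mul, mul_one]
    have hmul : ∀ j, algebraMap A (L j) (t ^ n) * φ j x = algebraMap A (L j) (Y * a) := fun j => by
      rw [← (φ j).commutes, ← map_mul, hxa, (φ j).commutes]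
    have hcancel : ∀ j (r r' : L j), algebraMap A (L j) (t ^ n) * r = algebraMap A (L j) (t ^ n) * r' → r = r' :=
      fun j r r' h => by rw [map_pow] at h; exact ((hu j).pow n).mul_left_cancel h
    have hi : φ i x = algebraMap A (L i) (Y * s) * algebraMap (B i) (L i) b := by
      refine hcancel i _ _ ?_
      rw [hmul, IsScalarTower.algebraMap_apply A (B i) (L i), IsScalarTower.algebraMap_apply A (B i) (L i),
        IsScalarTower.algebraMap_apply A (B i) (L i), ← map_mul, ← map_mul]
      congr 1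
      have hz' : algebraMap A (B i) (t ^ n) * b = algebraMap (Localization.AtPrime (q i)) (B i) z := by
        rw [hz, Algebra.smul_def, IsScalarTower.algebraMap_apply A (Localization.AtPrime (q i)) (B i), map_pow]
      rw [show algebraMap A (B i) (t ^ n) * (algebraMap A (B i) (Y * s) * b) =
        algebraMap A (B i) (Y * s) * (algebraMap A (B i) (t ^ n) * b) by ring, hz',
        IsScalarTower.algebraMap_apply A (Localization.AtPrime (q i)) (B i),
        IsScalarTower.algebraMap_apply A (Localization.AtPrime (q i)) (B i), ← map_mul, map_mul (algebraMap A _),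
        map_mul (algebraMap A _), mul_assoc, mul_comm (algebraMap A (Localization.AtPrime (q i)) (s : A)) z, hza]
    refine ⟨Y * s, x, ?_, ⟨⟨Y * a, hxa.symm⟩, fun j => ?_⟩, hi⟩
    · exact fun h => (Ideal.IsPrime.mem_or_mem (inferInstance : (q i).IsPrime) h).elim hY s.2
    by_cases hji : j = i
    · subst hji
      exact ⟨algebraMap A (B j) (Y * s) * b, by rw [map_mul, ← IsScalarTower.algebraMap_apply, hi]⟩
    · obtain ⟨g, hg⟩ : algebraMap A (Localization.AtPrime (q j)) t ^ n ∣ algebraMap A (Localization.AtPrime (q j)) (Y * a) := by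
        rw [map_mul]
        refine dvd_mul_of_dvd_left ?_ _
        rw [map_prod]
        exact (hy2 j hji).trans (Finset.dvd_prod_of_mem _ (Finset.mem_erase.2 ⟨hji, Finset.mem_univ j⟩))
      refine ⟨algebraMap _ (B j) g, hcancel j _ _ ?_⟩
      rw [hmul, IsScalarTower.algebraMap_apply A (B j) (L j), IsScalarTower.algebraMap_apply A (B j) (L j), ← map_mul]
      congr 1
      rw [IsScalarTower.algebraMap_apply A (Localization.AtPrime (q j)) (B j),
        IsScalarTower.algebraMap_apply A (Localization.AtPrime (q j)) (B j), ← map_mul, hg, map_pow]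
  -- a power of the maximal ideal pushing `M (n + n)` into `M n`
  have hk : ∀ x ∈ M (n + n), ∃ k, ∀ c ∈ 𝔪 ^ k, c • x ∈ M n := fun x hx => by
    let I : Ideal A := (M n).comap (LinearMap.toSpanSingleton A K x)
    have htI : t ^ n ∈ I := by
      obtain ⟨a, ha⟩ := hx.1
      refine ⟨⟨a, ?_⟩, fun i => ?_⟩
      · rw [ha, pow_add, map_mul, LinearMap.toSpanSingleton_apply, Algebra.smul_def, mul_assoc]
      · obtain ⟨b, hb⟩ := hx.2 i
        refine ⟨algebraMap A (B i) (t ^ n) * b, ?_⟩
        rw [map_mul, hb, ← IsScalarTower.algebraMap_apply, LinearMap.toSpanSingleton_apply, Algebra.smul_def, map_mul,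
          AlgHom.commutes]
    have hq : ∀ i, ¬ I ≤ q i := fun i hle => by
      obtain ⟨b, hb⟩ := hx.2 i
      obtain ⟨s, z, hs, hz, hzb⟩ := hsur i b
      have hx' : s • x - z ∈ M (n + n) := by
        refine Submodule.sub_mem _ (Submodule.smul_mem _ _ hx) ⟨?_, hz.2⟩
        obtain ⟨a, ha⟩ := hz.1
        exact ⟨t ^ n * a, by rw [map_mul, ha, pow_add, map_mul, mul_assoc]⟩
      obtain ⟨s', hs', h0⟩ := hker i _ _ hx' (by
        rw [map_sub, map_smul, hzb, ← hb, Algebra.smul_def, sub_self])
      have hmem : s' * s ∈ I := by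
        show (s' * s) • x ∈ M n
        rw [smul_sub, sub_eq_zero, smul_smul] at h0
        rw [h0]
        exact Submodule.smul_mem _ _ hz
      exact ((Ideal.IsPrime.mem_or_mem (inferInstance : (q i).IsPrime) (hle hmem)).elim hs' hs)
    have hrad : 𝔪 ≤ I.radical := by
      rw [Ideal.radical_eq_sInf]
      refine le_sInf fun P hP => ?_
      rcases hV P hP.2 (hP.2.mem_of_pow_mem n (hP.1 htI)) with h | ⟨i, hi⟩
      · exact h ▸ le_rfl
      · exact absurd (hi ▸ hP.1) (hq i)
    obtain ⟨k, hk⟩ := Ideal.exists_pow_le_of_le_radical_of_fg hrad (IsNoetherian.noetherian _)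
    exact ⟨k, fun c hc => hk hc⟩
  choose! k hk using hk
  obtain ⟨G, hG⟩ := hfg (n + n)
  let κ := G.sup k
  have hκ : ∀ x ∈ M (n + n), ∀ c ∈ 𝔪 ^ κ, c • x ∈ M n := fun x hx c hc => by
    have hle : M (n + n) ≤ (M n).comap (LinearMap.lsmul A K c) := by
      rw [← hG, Submodule.span_le]
      intro g hg
      exact hk g (hG ▸ Submodule.subset_span hg) c (Ideal.pow_le_pow_right (Finset.le_sup hg) hc)
    exact hle hx
  let P : Submodule A K := 𝔪 ^ κ • M n
  have hPM : P ≤ M n := Submodule.smul_le_right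
  have hPP : ∀ x ∈ P, ∀ y ∈ P, x * y ∈ P := fun x hx y hy => by
    refine Submodule.smul_induction_on hx (fun c hc u hu => ?_) (fun u v hu hv => ?_)
    · rw [smul_mul_assoc]
      refine Submodule.smul_mem_smul hc ?_
      refine Submodule.smul_induction_on hy (fun d hd v hv => ?_) (fun p p' hp hp' => by rw [mul_add]; exact add_mem hp hp')
      rw [mul_smul_comm]
      refine hκ _ ⟨?_, fun i => ?_⟩ d hd
      · obtain ⟨a, ha⟩ := hu.1
        obtain ⟨a', ha'⟩ := hv.1
        exact ⟨a * a', by rw [map_mul, ha, ha', pow_add, map_mul]; ring⟩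
      · obtain ⟨b, hb⟩ := hu.2 i
        obtain ⟨b', hb'⟩ := hv.2 i
        exact ⟨b * b', by rw [map_mul, hb, hb', map_mul]⟩
    · rw [add_mul]; exact add_mem hu hv
  let S : Submodule A K := 1 ⊔ P
  have h1S : (1 : K) ∈ S := Submodule.mem_sup_left (Submodule.one_le.1 le_rfl)
  have hmulS : ∀ x y, x ∈ S → y ∈ S → x * y ∈ S := fun x y hx hy => by
    obtain ⟨u, hu, p, hp, rfl⟩ := Submodule.mem_sup.1 hx
    obtain ⟨v, hv, p', hp', rfl⟩ := Submodule.mem_sup.1 hy
    obtain ⟨a, rfl⟩ := Submodule.mem_one.1 hu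
    obtain ⟨a', rfl⟩ := Submodule.mem_one.1 hv
    refine Submodule.mem_sup.2 ⟨_, Submodule.mem_one.2 ⟨a * a', rfl⟩, a • p' + a' • p + p * p', ?_, ?_⟩
    · exact add_mem (add_mem (P.smul_mem a hp') (P.smul_mem a' hp)) (hPP p hp p' hp')
    · simp only [Algebra.smul_def, map_mul]; ring
  let C : Subalgebra A K := S.toSubalgebra h1S hmulS
  have hSM : ∀ x ∈ S, x ∈ M n := fun x hx => by
    obtain ⟨u, hu, p, hp, rfl⟩ := Submodule.mem_sup.1 hx
    obtain ⟨a, rfl⟩ := Submodule.mem_one.1 hu
    refine add_mem ⟨⟨t ^ n * a, by rw [map_mul]⟩, fun i => ⟨algebraMap A (B i) a, ?_⟩⟩ (hPM hp)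
    rw [AlgHom.commutes, ← IsScalarTower.algebraMap_apply]
  refine ⟨C, inferInstance, inferInstance, ⟨fun a b hab => hK (congrArg Subtype.val hab), ?_, n, fun r hr c => ?_⟩, fun i => ?_⟩
  · have : S.FG := by
      refine Submodule.FG.sup ?_ (isNoetherian_submodule.1 (isNoetherian_of_fg_of_noetherian _ (hfg n)) _ hPM)
      rw [Submodule.one_eq_span]; exact Submodule.fg_span_singleton 1
    exact Module.Finite.iff_fg.2 this
  · rw [Ideal.span_singleton_pow, Ideal.mem_span_singleton'] at hr
    obtain ⟨d, rfl⟩ := hr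
    obtain ⟨a, ha⟩ := (hSM _ c.2).1
    refine ⟨d * a, Subtype.ext ?_⟩
    show algebraMap A K (d * a) = (d * t ^ n) • (c : K)
    rw [map_mul, ha, Algebra.smul_def, map_mul, mul_assoc]
  · have hrange : ∀ c : C, ∃ b : B i, algebraMap (B i) (L i) b = φ i c := fun c => (hSM _ c.2).2 i
    choose χ hχ using hrange
    let χ' : C →ₐ[A] B i :=
      { toFun := χ
        map_one' := hψ i (by rw [hχ, map_one]; exact map_one (φ i))
        map_mul' := fun x y => hψ i (by rw [hχ, map_mul, hχ, hχ]; exact map_mul (φ i) _ _)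
        map_zero' := hψ i (by rw [hχ, map_zero]; exact map_zero (φ i))
        map_add' := fun x y => hψ i (by rw [hχ, map_add, hχ, hχ]; exact map_add (φ i) _ _)
        commutes' := fun a => hψ i (by rw [hχ, ← IsScalarTower.algebraMap_apply]; exact (φ i).commutes a) }
    refine nonempty_equiv (q i) χ' (fun c hc => ?_) (fun b => ?_)
    · obtain ⟨s', hs', h0⟩ := hker i n c (hSM _ c.2) (by rw [← hχ, show χ c = 0 from hc, map_zero])
      exact ⟨s', hs', Subtype.ext h0⟩
    · obtain ⟨s, x, hs, hx, hxb⟩ := hsur i b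
      obtain ⟨s', hs'm, hs'q⟩ := SetLike.not_le_iff_exists.1
        (fun h : 𝔪 ^ κ ≤ q i => hqm i (le_antisymm (IsLocalRing.le_maximalIdeal Ideal.IsPrime.ne_top')
          (Ideal.IsPrime.le_of_pow_le h)))
      refine ⟨s' * s, ⟨s' • x, Submodule.mem_sup_right (Submodule.smul_mem_smul hs'm hx)⟩,
        fun h => (Ideal.IsPrime.mem_or_mem (inferInstance : (q i).IsPrime) h).elim hs'q hs, hψ i ?_⟩
      show algebraMap (B i) (L i) (χ _) = _
      rw [hχ, map_mul, ← IsScalarTower.algebraMap_apply, map_smul, hxb, Algebra.smul_def, map_mul, mul_assoc]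

end Groth.Agent.Glue28
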